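import Cfsg.Prelude.Def_CaseTheorems
import Cfsg.Prelude.Def_TwoFusion
import Cfsg.Prelude.Def_Transfer
import Cfsg.Prelude.Def_Local
import Cfsg.Prelude.Def_Sz
import Mathlib

/-!
# Simple groups of order prime to three: interface

The plan and the owners are in `docs/goldschmidt_three_plan_helper10.md`.

`Ctx S A`: `A` is a minimal nontrivial strongly closed abelian subgroup of the Sylow subgroup `S`,
elementary of order at least eight, and every proper simple section is a Suzuki group.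
`Hub S A`: the outcome of the signalizer and component analysis.
`Engine S A W M`: the hypotheses of the counting argument.
-/

set_option autoImplicit false

namespace CfsgLib.GoldThree

open Subgroup

universe u

/-- The simple nonabelian groups of order prime to three and less than `N` are Suzuki groups. -/
def SmallHyp (N : ℕ) : Prop :=
  ∀ (X : Type u) [Group X] [Finite X] [IsSimpleGroup X],
    (∃ a b : X, a * b ≠ b * a) → ¬ 3 ∣ Nat.card X → Nat.card X < N → Cfsg.Lie.IsoSuzuki X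

variable {G : Type u} [Group G]

/-- A group of order prime to three whose simple nonabelian sections are Suzuki groups. -/
structure SzSections (H : Type u) [Group H] : Prop where
  three : ¬ 3 ∣ Nat.card H
  section_suzuki : ∀ (K : Subgroup H) (R : Subgroup K) [R.Normal] [IsSimpleGroup (K ⧸ R)],
    (∃ a b : K ⧸ R, a * b ≠ b * a) → Cfsg.Lie.IsoSuzuki (K ⧸ R)

/-- No elementary abelian group of automorphisms induced on `A` is an offender. -/
def NoOff (A : Subgroup G) : Prop :=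
  ∀ B : Subgroup G, B ≤ normalizer (A : Set G) →
    (∀ x ∈ B, x * x ∈ centralizer (A : Set G)) →
    Nat.card A * Nat.card (B ⊓ centralizer (A : Set G) : Subgroup G) ≤
      Nat.card B * Nat.card (A ⊓ centralizer (B : Set G) : Subgroup G) →
    B ≤ centralizer (A : Set G)

/-- The odd core of a centralizer, as a subgroup of `G`. -/
def coreAt (x : G) : Subgroup G :=
  (Cfsg.oddCore ↥(centralizer ({x} : Set G))).map (centralizer ({x} : Set G)).subtype

/-- The members of `A` other than `1` are conjugate under `N(A)`. -/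
def TransA (A : Subgroup G) : Prop :=
  ∀ a ∈ A, a ≠ 1 → ∀ b ∈ A, b ≠ 1 → ∃ n ∈ normalizer (A : Set G), n * a * n⁻¹ = b

/-- The setting. -/
structure Ctx [Finite G] [IsSimpleGroup G] (S : Sylow 2 G) (A : Subgroup G) : Prop where
  three : ¬ 3 ∣ Nat.card G
  small : SmallHyp.{u} (Nat.card G)
  elem : Cfsg.IsElementaryAbelian 2 A
  closed : Cfsg.IsStronglyClosed A (S : Subgroup G)
  irred : ∀ B : Subgroup G, B ≤ A → B ≠ ⊥ →
    (∀ n ∈ normalizer (A : Set G), ∀ b ∈ B, n * b * n⁻¹ ∈ B) → B = A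
  eight_le : 8 ≤ Nat.card A

/-! ### Suzuki two-groups and Suzuki subgroups -/

/-- `T` has the structure of a Sylow 2-subgroup of `Sz(q)` and `U = Z(T) = Ω₁(T)`. -/
structure SuzukiTwo (T U : Subgroup G) (q : ℕ) : Prop where
  le : U ≤ T
  exp : ∃ m, 1 ≤ m ∧ q = 2 ^ (2 * m + 1)
  card_T : Nat.card T = q ^ 2
  card_U : Nat.card U = q
  central : ∀ u ∈ U, ∀ t ∈ T, u * t = t * u
  sq_U : ∀ u ∈ U, u * u = 1
  sq_mem : ∀ x ∈ T, x * x ∈ U
  sq_inj : ∀ x ∈ T, ∀ y ∈ T, x * x = y * y → x⁻¹ * y ∈ U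
  comm_mem : ∀ x ∈ T, ∀ y ∈ T, x⁻¹ * y⁻¹ * x * y ∈ U
  comm_card : ∀ x ∈ T, x ∉ U → 2 * Set.ncard {c : G | ∃ y ∈ T, x⁻¹ * y⁻¹ * x * y = c} = q
  comm_inj : ∀ x ∈ T, x ∉ U → ∀ y ∈ T, y ∉ U →
    {c : G | ∃ w ∈ T, x⁻¹ * w⁻¹ * x * w = c} = {c : G | ∃ w ∈ T, y⁻¹ * w⁻¹ * y * w = c} →
      x⁻¹ * y ∈ U
  aut_two : ∀ φ : MulAut T, (∃ k : ℕ, φ ^ 2 ^ k = 1) →
    ∀ u : T, (u : G) ∈ U → φ u = u

/-- `L` is a Suzuki group with Sylow 2-subgroup `T` and `U` its centre. -/
structure SzSub (L T U : Subgroup G) (q : ℕ) : Prop where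
  iso : Cfsg.Lie.IsoSuzuki L
  le : T ≤ L
  card_L : Nat.card L = q ^ 2 * (q ^ 2 + 1) * (q - 1)
  two : SuzukiTwo T U q

/-! ### Centralizer quotients -/

/-- `C(x) / O(C(x))`. -/
abbrev CQ (x : G) : Type u :=
  ↥(centralizer ({x} : Set G)) ⧸ Cfsg.oddCore ↥(centralizer ({x} : Set G))

/-- The image of `A ⊓ C(x)` in `C(x) / O(C(x))`. -/
noncomputable def imCQ [Finite G] (A : Subgroup G) (x : G) : Subgroup (CQ x) :=
  (A.subgroupOf (centralizer ({x} : Set G))).map
    (QuotientGroup.mk' (Cfsg.oddCore ↥(centralizer ({x} : Set G))))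

/-- `L` is a component of `H` moved by `A`: `A = (A ⊓ L) × C_A(L)`, with `A ⊓ L` the centre of a
Sylow 2-subgroup of the Suzuki group `L`. -/
structure Moved {H : Type u} [Group H] (A L : Subgroup H) : Prop where
  comp : Cfsg.IsComponent L
  iso : Cfsg.Lie.IsoSuzuki L
  norm : ∀ a ∈ A, ∀ l ∈ L, a * l * a⁻¹ ∈ L
  moves : ¬ A ≤ centralizer (L : Set H)
  sylow : ∃ T : Subgroup H, ∃ q : ℕ, SzSub L T (A ⊓ L) q ∧ T ≤ centralizer (A : Set H)
  split : ∀ a ∈ A, ∃ l ∈ A ⊓ L, ∃ c ∈ A ⊓ centralizer (L : Set H), a = l * c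

/-- `C(a) = O(C(a)) N_{C(a)}(A)`. -/
def NormalAt (A : Subgroup G) (a : G) : Prop :=
  ∀ c ∈ centralizer ({a} : Set G), ∃ o ∈ coreAt a,
    ∃ n ∈ normalizer (A : Set G) ⊓ centralizer ({a} : Set G), c = o * n

/-! ### The outcome of the signalizer and component analysis -/

/-- The hypotheses of the counting argument: `M = W N(A)` is proper and contains the centralizers
of the involutions of `A`, `W` is odd and normal in `M`, and `C_W(x)` is the core of `C(x)`. -/
structure Engine [Finite G] (S : Sylow 2 G) (A W M : Subgroup G) : Prop where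
  proper : M ≠ ⊤
  cent : ∀ a ∈ A, a ≠ 1 → centralizer ({a} : Set G) ≤ M
  norm_le : normalizer (A : Set G) ≤ M
  W_le : W ≤ M
  W_odd : Odd (Nat.card W)
  W_norm : ∀ m ∈ M, ∀ w ∈ W, m * w * m⁻¹ ∈ W
  mem_prod : ∀ m ∈ M, ∃ w ∈ W, ∃ n ∈ normalizer (A : Set G), m = w * n
  core_eq : ∀ x : G, orderOf x = 2 → x ∈ normalizer (A : Set G) →
    4 ≤ Nat.card (A ⊓ centralizer ({x} : Set G) : Subgroup G) →
      W ⊓ centralizer ({x} : Set G) = coreAt x

/-- The proper subgroup `M` containing the centralizers, in the two cases. -/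
def Hub [Finite G] (S : Sylow 2 G) (A : Subgroup G) : Prop :=
  (∃ W M : Subgroup G, Engine S A W M) ∨
    ∃ M : Subgroup G, M ≠ ⊤ ∧ normalizer (A : Set G) ≤ M ∧
      (∀ a ∈ A, a ≠ 1 → centralizer ({a} : Set G) ≤ M) ∧ ¬ TransA A

/-! ### The engine -/

/-- An involution of `M` whose centralizer is not in `M`. -/
def IsBad (M : Subgroup G) (x : G) : Prop :=
  orderOf x = 2 ∧ x ∈ M ∧ ¬ centralizer ({x} : Set G) ≤ M

/-- The points of `G ⧸ M` fixed by `c`. -/
def fixPts (M : Subgroup G) (c : G) : Set (G ⧸ M) :=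
  {p | c • p = p}

/-- What the engine core proves from a bad involution, before counting. -/
structure LinesPre [Finite G] (S : Sylow 2 G) (A W M : Subgroup G) (q : ℕ) : Prop where
  exp : ∃ m, 1 ≤ m ∧ q = 2 ^ (2 * m + 1)
  card_A : Nat.card A = q
  trans : TransA A
  bad_of_notMem : ∀ x ∈ (S : Subgroup G), orderOf x = 2 → x ∉ A → IsBad M x
  commute : ∀ x ∈ (S : Subgroup G), orderOf x = 2 → ∀ a ∈ A, x * a = a * x
  coset : ∀ x ∈ (S : Subgroup G), orderOf x = 2 → x ∉ A → ∀ a ∈ A,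
    ∃ n ∈ normalizer (A : Set G), n * x * n⁻¹ = x * a
  card_fix : ∀ c : G, IsBad M c → Set.ncard (fixPts M c) = q ^ 2 + 1
  trans_fix : ∀ c : G, IsBad M c → ∀ p ∈ fixPts M c,
    ∃ g ∈ centralizer ({c} : Set G), g • ((1 : G) : G ⧸ M) = p
  component : ∀ x ∈ (S : Subgroup G), orderOf x = 2 → x ∉ A →
    ∃ L : Subgroup (CQ x), L.Normal ∧ Cfsg.Lie.IsoSuzuki L ∧ imCQ A x ≤ L ∧
      Nat.card L = q ^ 2 * (q ^ 2 + 1) * (q - 1) ∧
      Odd (L ⊔ centralizer (L : Set (CQ x))).index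

/-- The engine core with the number of points. -/
structure Lines [Finite G] (S : Sylow 2 G) (A W M : Subgroup G) (q : ℕ) : Prop
    extends LinesPre S A W M q where
  index : M.index = (q ^ 2 + 1) * (1 + (q - 1) * q ^ 2)

/-- Two commuting bad involutions with the same line. -/
def PairLine (M : Subgroup G) : Prop :=
  ∃ c v : G, IsBad M c ∧ orderOf v = 2 ∧ v ≠ c ∧ v * c = c * v ∧ fixPts M c ⊆ fixPts M v

end CfsgLib.GoldThree
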